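import Groth.Agent.DRingKP.KFlat
import Groth.Prelude.Def_DTen
import Mathlib.Data.Int.Interval

/-!
A bounded complex of finite projectives with zero differential whose only endomorphisms are faithful scalars
is invertible for the tensor product of complexes.
-/

set_option autoImplicit false
set_option maxHeartbeats 1000000
set_option backward.isDefEq.respectTransparency false
universe u

namespace Groth.Agent.InvEquiv

open CategoryTheory Limits MonoidalCategory

variable {A : Type u} [CommRing A]

/-- Finite dual bases. -/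
theorem exists_dualBasis (P : Type u) [AddCommGroup P] [Module A P] [Module.Finite A P] [Module.Projective A P] :
    ∃ (r : ℕ) (x : Fin r → P) (f : Fin r → (P →ₗ[A] A)), ∀ z, ∑ a, f a z • x a = z := by
  classical
  obtain ⟨r, π, hπ⟩ := Module.Finite.exists_fin' A P
  obtain ⟨s, hs⟩ := Module.projective_lifting_property π LinearMap.id hπ
  refine ⟨r, fun a => π (Pi.single a 1), fun a => (LinearMap.proj a).comp s, fun z => ?_⟩
  conv_rhs => rw [← show π (s z) = z from LinearMap.congr_fun hs z, pi_eq_sum_univ' (s z)]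
  simp [Pi.single_apply, eq_comm]

/-- If all endomorphisms of a finite projective module are scalars then the trace of the identity acts as identity. -/
theorem trace_smul_eq (P : Type u) [AddCommGroup P] [Module A P]
    (hend : ∀ g : P →ₗ[A] P, ∃ c : A, ∀ z, g z = c • z) {r : ℕ} (x : Fin r → P) (f : Fin r → (P →ₗ[A] A))
    (hb : ∀ z, ∑ a, f a z • x a = z) (y : P) : (∑ a, f a (x a)) • y = y := by
  have comm : ∀ (g h : P →ₗ[A] A) (p q z : P), (h z * g q) • p = (g z * h p) • q := by
    intro g h p q z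
    obtain ⟨c, hc⟩ := hend ((LinearMap.toSpanSingleton A P p).comp g)
    obtain ⟨d, hd⟩ := hend ((LinearMap.toSpanSingleton A P q).comp h)
    simp only [LinearMap.comp_apply, LinearMap.toSpanSingleton_apply] at hc hd
    have e1 : g (h z • q) • p = c • d • z := by rw [hc, hd]
    have e2 : h (g z • p) • q = d • c • z := by rw [hd, hc]
    rw [map_smul, smul_eq_mul] at e1 e2
    rw [e1, e2, smul_smul, smul_smul, mul_comm]
  set t := ∑ a, f a (x a) with ht
  have key : ∀ (g : P →ₗ[A] A) (p q : P), (t * g q) • p = g p • q := by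
    intro g p q
    have h1 : (t * g q) • p = ∑ a, (g (x a) * f a p) • q := by
      rw [ht, Finset.sum_mul, Finset.sum_smul]
      exact Finset.sum_congr rfl fun a _ => comm g (f a) p q (x a)
    rw [h1, ← Finset.sum_smul]
    congr 1
    conv_rhs => rw [← hb p, map_sum]
    simp [mul_comm]
  have ht2 : ∀ z : P, (t * t) • z = z := fun z => by
    conv_rhs => rw [← hb z]
    nth_rewrite 2 [ht]
    rw [Finset.mul_sum, Finset.sum_smul]
    exact Finset.sum_congr rfl fun a _ => key (f a) z (x a)
  have hsq : ∀ (g : P →ₗ[A] A) (p z : P), ((t - 1) * g p ^ 2) • z = 0 := fun g p z => by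
    have h1 : ((t - 1) * g p) • p = 0 := by rw [sub_mul, sub_smul, one_mul, key, sub_self]
    calc ((t - 1) * g p ^ 2) • z = (t * t) • ((t - 1) * g p ^ 2) • z := (ht2 _).symm
      _ = (t * ((t - 1) * g p)) • ((t * g p) • z) := by rw [smul_smul, smul_smul]; ring_nf
      _ = (t * ((t - 1) * g p)) • (g z • p) := by rw [key]
      _ = (t * g z) • (((t - 1) * g p) • p) := by rw [smul_smul, smul_smul]; ring_nf
      _ = 0 := by rw [h1, smul_zero]
  let J : Ideal A :=
    { carrier := {c | ∀ z : P, ((t - 1) * c) • z = 0}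
      add_mem' := fun {a b} ha hb z => by rw [mul_add, add_smul, ha z, hb z, add_zero]
      zero_mem' := fun z => by rw [mul_zero, zero_smul]
      smul_mem' := fun c a ha z => by rw [smul_eq_mul, mul_left_comm, mul_smul, ha z, smul_zero] }
  obtain ⟨N, hN⟩ : t ∈ J.radical := ht ▸ Ideal.sum_mem _ fun a _ => ⟨2, hsq (f a) (x a)⟩
  have hpow : ∀ (n : ℕ) (z : P), t ^ n • t ^ n • z = z := by
    intro n z
    induction n with
    | zero => simp
    | succ n ih => rw [smul_smul, ← pow_add, show n + 1 + (n + 1) = 2 + (n + n) by omega, pow_add, mul_smul,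
        show t ^ (n + n) • z = z by rw [pow_add, mul_smul]; exact ih, pow_two, ht2]
  rw [← sub_eq_zero]
  conv_lhs => arg 2; rw [← one_smul A y]
  rw [← sub_smul, ← hpow N ((t - 1) • y), smul_smul (t ^ N) (t - 1), mul_comm (t ^ N) (t - 1), hN y, smul_zero]

variable (C : DRing.Cx A)

/-- The dual complex of a complex with zero differential. -/
noncomputable def dualCx : DRing.Cx A where
  X i := ModuleCat.of A (Module.Dual A (C.X (-i)))
  d _ _ := 0
  shape _ _ _ := rfl
  d_comp_d' _ _ _ _ _ := zero_comp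

theorem tensor_d_eq_zero {K L : DRing.Cx A} (hK : ∀ i j, K.d i j = 0) (hL : ∀ i j, L.d i j = 0) (i j : ℤ) :
    (K ⊗ L).d i j = 0 := by
  by_cases hij : i + 1 = j
  · subst hij
    refine HomologicalComplex.mapBifunctor.hom_ext (fun p q h => ?_)
    erw [HomologicalComplex.mapBifunctor.d_eq, Preadditive.comp_add, HomologicalComplex.mapBifunctor.ι_D₁,
      HomologicalComplex.mapBifunctor.ι_D₂]
    rw [HomologicalComplex.mapBifunctor.d₁_eq _ _ _ _ (show (ComplexShape.up ℤ).Rel p (p + 1) from rfl) q _
        (show p + 1 + q = i + 1 by have : p + q = i := h; omega),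
      HomologicalComplex.mapBifunctor.d₂_eq _ _ _ _ p (show (ComplexShape.up ℤ).Rel q (q + 1) from rfl) _
        (show p + (q + 1) = i + 1 by have : p + q = i := h; omega)]
    simp [hK, hL]
  · exact (K ⊗ L).shape i j hij

variable (hd : ∀ i j, C.d i j = 0) (hC : ∀ i, Module.Projective A (C.X i) ∧ Module.Finite A (C.X i))
  {a b : ℤ} (hbd : ∀ i, (i < a ∨ b < i) → IsZero (C.X i))
  (hend : ∀ g : ∀ i, C.X i →ₗ[A] C.X i, ∃ c : A, ∀ i z, g i z = c • z)
  (hfaith : ∀ c : A, (∀ i (z : C.X i), c • z = 0) → c = 0)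

include hend in
/-- the idempotent of one degree -/
theorem exists_idem (p : ℤ) : ∃ e : A, (∀ z : C.X p, e • z = z) ∧ ∀ i, i ≠ p → ∀ z : C.X i, e • z = 0 := by
  classical
  obtain ⟨e, he⟩ := hend (Function.update (fun _ => 0) p LinearMap.id)
  exact ⟨e, fun z => by rw [← he, Function.update_self]; rfl,
    fun i hi z => by rw [← he, Function.update_of_ne hi]; rfl⟩

include hend in
theorem tmul_eq_zero_of_ne {p q : ℤ} (h : q ≠ p) (x : C.X p) (f : Module.Dual A (C.X q)) :
    x ⊗ₜ[A] f = 0 := by
  obtain ⟨e, h1, h2⟩ := exists_idem C hend p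
  have : e • f = 0 := LinearMap.ext fun z => by
    rw [LinearMap.smul_apply, ← map_smul, h2 q h z, map_zero, LinearMap.zero_apply]
  rw [← h1 x, TensorProduct.smul_tmul, this, TensorProduct.tmul_zero]

include hd hC hbd hend hfaith in
theorem nonempty_tensor_dual_iso : Nonempty (C ⊗ dualCx C ≅ 𝟙_ (DRing.Cx A)) := by
  classical
  have hb : ∀ p, ∃ (r : ℕ) (x : Fin r → C.X p) (f : Fin r → (C.X p →ₗ[A] A)), ∀ z, ∑ a, f a z • x a = z :=
    fun p => haveI := (hC p).1; haveI := (hC p).2; exists_dualBasis (C.X p)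
  choose r x f hb using hb
  choose e he₁ he₂ using exists_idem C hend
  have hend1 : ∀ p (g : C.X p →ₗ[A] C.X p), ∃ c : A, ∀ z, g z = c • z := fun p g => by
    obtain ⟨c, hc⟩ := hend (Function.update (fun _ => 0) p g)
    exact ⟨c, fun z => by rw [← hc p, Function.update_self]⟩
  let t : ℤ → A := fun p => ∑ a, f p a (x p a)
  have ht₁ : ∀ p (z : C.X p), t p • z = z := fun p z => trace_smul_eq (C.X p) (hend1 p) (x p) (f p) (hb p) z
  have ht₂ : ∀ p q, q ≠ p → ∀ z : C.X q, t p • z = 0 := fun p q hq z => by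
    have : t p = e p * t p := by
      simp only [t, Finset.mul_sum]
      exact Finset.sum_congr rfl fun a _ => by rw [← smul_eq_mul, ← map_smul, he₁]
    rw [this, mul_comm, mul_smul, he₂ p q hq z, smul_zero]
  have hT : ∑ p ∈ Finset.Icc a b, t p = 1 := by
    rw [← sub_eq_zero]
    refine hfaith _ fun i z => ?_
    rw [sub_smul, one_smul, Finset.sum_smul]
    by_cases hi : i ∈ Finset.Icc a b
    · rw [Finset.sum_eq_single i (fun p _ hp => ht₂ p i (Ne.symm hp) z) (fun h => absurd hi h), ht₁, sub_self]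
    · haveI := ModuleCat.subsingleton_of_isZero (hbd i (by simp only [Finset.mem_Icc] at hi; omega))
      exact Subsingleton.elim _ _
  let ev : ∀ p, C.X p ⊗ (dualCx C).X (-p) ⟶ 𝟙_ (ModuleCat.{u} A) := fun p =>
    ModuleCat.ofHom (TensorProduct.lift ((LinearMap.id (R := A) (M := Module.Dual A (C.X (- -p)))).flip.comp
      (LinearMap.id.comp ((C.XIsoOfEq (neg_neg p).symm).hom.hom))))
  let out : (C ⊗ dualCx C).X 0 ⟶ 𝟙_ (ModuleCat.{u} A) := HomologicalComplex.mapBifunctorDesc fun p q h =>
    ((C.X p) ◁ ((dualCx C).XIsoOfEq (show q = -p by have : p + q = 0 := h; omega)).hom) ≫ ev p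
  let z₀ : (C ⊗ dualCx C).X 0 := ∑ p ∈ Finset.Icc a b, ∑ k,
    HomologicalComplex.ιTensorObj C (dualCx C) p (-p) 0 (add_neg_cancel p)
      (x p k ⊗ₜ[A] ((f p k).comp (C.XIsoOfEq (neg_neg p)).hom.hom))
  let inn : 𝟙_ (ModuleCat.{u} A) ⟶ (C ⊗ dualCx C).X 0 := ModuleCat.ofHom (LinearMap.toSpanSingleton A _ z₀)
  have hev : ∀ p (y : C.X p) (g : Module.Dual A (C.X p)),
      ev p (y ⊗ₜ[A] (g.comp (C.XIsoOfEq (neg_neg p)).hom.hom)) = g y := fun p y g => by
    show g ((C.XIsoOfEq (neg_neg p)).hom ((C.XIsoOfEq (neg_neg p).symm).hom y)) = g y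
    rw [← ConcreteCategory.comp_apply, HomologicalComplex.XIsoOfEq_hom_comp_XIsoOfEq_hom]
    simp
  have hout : ∀ p (w : (C.X p ⊗ (dualCx C).X (-p) : ModuleCat.{u} A)),
      out (HomologicalComplex.ιTensorObj C (dualCx C) p (-p) 0 (add_neg_cancel p) w) = ev p w := fun p w => by
    show (HomologicalComplex.ιTensorObj C (dualCx C) p (-p) 0 (add_neg_cancel p) ≫ out) w = ev p w
    simp [out]
  have hout₁ : out z₀ = (1 : A) := by
    rw [← hT]
    simp only [z₀, map_sum]
    exact Finset.sum_congr rfl fun p _ => Finset.sum_congr rfl fun k _ => (hout p _).trans (hev p _ _)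
  have hzero : ∀ n : ℤ, n ≠ 0 → IsZero ((C ⊗ dualCx C).X n) := fun n hn => by
    rw [IsZero.iff_id_eq_zero]
    refine HomologicalComplex.mapBifunctor.hom_ext (fun p q h => ?_)
    have hpq : -q ≠ p := by have : p + q = n := h; omega
    refine ModuleCat.MonoidalCategory.tensor_ext (fun y g => ?_)
    show _ = (0 : (C ⊗ dualCx C).X n)
    have h0 : (y ⊗ₜ[A] g : TensorProduct A (C.X p) (Module.Dual A (C.X (-q)))) = 0 :=
      tmul_eq_zero_of_ne C hend hpq y g
    exact (congrArg (HomologicalComplex.ιMapBifunctor C (dualCx C) (curriedTensor (ModuleCat.{u} A))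
      (ComplexShape.up ℤ) p q n h).hom h0).trans (map_zero _)
  have hinn : out ≫ inn = 𝟙 _ := by
    refine HomologicalComplex.mapBifunctor.hom_ext (fun p q h => ?_)
    obtain rfl : q = -p := by have : p + q = 0 := h; omega
    refine ModuleCat.MonoidalCategory.tensor_ext (fun y g => ?_)
    obtain ⟨g, rfl⟩ : ∃ g' : Module.Dual A (C.X p), g'.comp (C.XIsoOfEq (neg_neg p)).hom.hom = g :=
      ⟨LinearMap.comp g (C.XIsoOfEq (neg_neg p).symm).hom.hom, LinearMap.ext fun w => by
        simp [← ConcreteCategory.comp_apply]⟩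
    show (out (HomologicalComplex.ιTensorObj C (dualCx C) p (-p) 0 h _) : A) • z₀ = _
    rw [hout p, hev]
    by_cases hp : p ∈ Finset.Icc a b
    · obtain ⟨c, hc⟩ := hend1 p ((LinearMap.toSpanSingleton A _ y).comp g)
      simp only [LinearMap.comp_apply, LinearMap.toSpanSingleton_apply] at hc
      have hgy : g y = c * t p := by
        conv_lhs => rw [← hb p y, map_sum]
        simp only [t, Finset.mul_sum, map_smul, smul_eq_mul]
        refine Finset.sum_congr rfl fun k _ => ?_
        rw [mul_comm, ← smul_eq_mul, ← map_smul, hc, map_smul, smul_eq_mul]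
      show g y • z₀ = HomologicalComplex.ιTensorObj C (dualCx C) p (-p) 0 h _
      simp only [z₀, Finset.smul_sum]
      rw [Finset.sum_eq_single p]
      · refine (Finset.sum_congr rfl fun k _ => (map_smul _ (g y) _).symm).trans
          ((map_sum _ _ _).symm.trans (congrArg _ ?_))
        have hy : (y ⊗ₜ[A] g : TensorProduct A (C.X p) (Module.Dual A (C.X p))) =
            ∑ k, g y • (x p k ⊗ₜ[A] f p k) := by
          have hg : g = ∑ k, g (x p k) • f p k := LinearMap.ext fun w => by
            conv_lhs => rw [← hb p w, map_sum]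
            simp [mul_comm]
          conv_lhs => rw [hg, TensorProduct.tmul_sum]
          refine Finset.sum_congr rfl fun k _ => ?_
          rw [TensorProduct.tmul_smul, TensorProduct.smul_tmul', TensorProduct.smul_tmul', hc, hgy, mul_smul,
            ht₁]
        have := congrArg (LinearMap.lTensor (C.X p)
          (C.XIsoOfEq (neg_neg p)).hom.hom.dualMap) hy
        simp only [LinearMap.lTensor_tmul, map_sum, map_smul] at this
        exact this.symm
      · intro i _ hi
        refine Finset.sum_eq_zero fun k _ => ?_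
        have h2 : (g y) • x i k = 0 := by
          rw [← he₁ p y, map_smul, smul_eq_mul, mul_comm, mul_smul, he₂ p i hi, smul_zero]
        refine (map_smul _ _ _).symm.trans ((congrArg _ ?_).trans (map_zero _))
        exact (TensorProduct.smul_tmul' (g y) (x i k) _).trans (by rw [h2, TensorProduct.zero_tmul])
      · exact fun h' => absurd hp h'
    · haveI := ModuleCat.subsingleton_of_isZero (hbd p (by simp only [Finset.mem_Icc] at hp; omega))
      rw [Subsingleton.elim y 0, map_zero, zero_smul, TensorProduct.zero_tmul]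
      exact (map_zero _).symm
  have houtinn : inn ≫ out = 𝟙 _ := ModuleCat.hom_ext (LinearMap.ext_ring (by
    show out ((1 : A) • z₀) = (1 : A)
    rw [one_smul, hout₁]))
  let ψ : (C ⊗ dualCx C).X 0 ≅ 𝟙_ (ModuleCat.{u} A) := ⟨out, inn, hinn, houtinn⟩
  exact ⟨HomologicalComplex.Hom.isoOfComponents (fun n => if hn : n = 0 then
      (C ⊗ dualCx C).XIsoOfEq hn ≪≫ ψ ≪≫ (HomologicalComplex.singleObjXIsoOfEq (ComplexShape.up ℤ) 0 _ n hn).symm
    else (hzero n hn).iso (HomologicalComplex.isZero_single_obj_X _ _ _ n hn))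
    fun i j _ => by
      rw [tensor_d_eq_zero hd (fun _ _ => rfl), zero_comp,
        show (𝟙_ (DRing.Cx A)).d i j = 0 from HomologicalComplex.single_obj_d _ _ _ i j, comp_zero]⟩

end Groth.Agent.InvEquiv
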