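import Groth.Agent.InvEquiv.Formal
import Groth.Agent.InvEquiv.Tensor
import Groth.Agent.DualCx.LocD
import Groth.Agent.DRingKP.DCEv
import Groth.Agent.DRingKP.DCPi

/-!
An `A`-linear autoequivalence of `D^b_coh(A)` sends residue fields to shifted residue fields and `A` to an
invertible object.
-/

set_option autoImplicit false
set_option maxHeartbeats 1000000
set_option backward.isDefEq.respectTransparency false
universe u

namespace Groth.Agent.InvEquiv

open CategoryTheory Limits DerivedCategory Pretriangulated MonoidalCategory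

attribute [local instance] HasDerivedCategory.standard

variable {A : Type u} [CommRing A]

/-- Coboundaries from the absence of maps to a single complex. -/
theorem bd_of_hom_eq_zero {K : DRing.Cx A} [K.IsKProjective] (m : Ideal A) (i : ℤ)
    (h : ∀ g : DerivedCategory.Q.obj K ⟶ DerivedCategory.Q.obj
      ((HomologicalComplex.single (ModuleCat.{u} A) (ComplexShape.up ℤ) i).obj (ModuleCat.of A (A ⧸ m))), g = 0) :
    Bd K m i := by
  intro p q hp hq f hf
  subst hq
  let S := (HomologicalComplex.single (ModuleCat.{u} A) (ComplexShape.up ℤ) i).obj (ModuleCat.of A (A ⧸ m))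
  let φ : K ⟶ S := HomologicalComplex.mkHomToSingle (ModuleCat.ofHom f) (fun j hj => by
    have : j + 1 = i := hj
    obtain rfl : j = p := by omega
    exact ModuleCat.hom_ext hf)
  obtain ⟨ho⟩ := DRingKP.exists_homotopy φ (h _)
  refine ⟨(ho.hom (i + 1) i ≫ (HomologicalComplex.singleObjXSelf (ComplexShape.up ℤ) i _).hom).hom, ?_⟩
  have := congrArg (· ≫ (HomologicalComplex.singleObjXSelf (ComplexShape.up ℤ) i (ModuleCat.of A (A ⧸ m))).hom) (ho.comm i)
  simp only [φ, HomologicalComplex.mkHomToSingle_f, HomologicalComplex.zero_f, add_zero, Category.assoc,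
    Iso.inv_hom_id, Category.comp_id] at this
  rw [dNext_eq _ (show (ComplexShape.up ℤ).Rel i (i + 1) from rfl),
    prevD_eq _ (show (ComplexShape.up ℤ).Rel (i - 1) i by simp),
    (HomologicalComplex.isZero_single_obj_X (ComplexShape.up ℤ) i (ModuleCat.of A (A ⧸ m)) (i - 1) (by omega)).eq_of_tgt
      (ho.hom i (i - 1)) 0, zero_comp, add_zero, Category.assoc] at this
  exact (congrArg ModuleCat.Hom.hom this).symm

/-- `A[0]` has no maps to a module in a nonzero degree. -/
theorem unit_hom_eq_zero {N : ModuleCat.{u} A} {n : ℤ} (hn : n ≠ 0)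
    (g : (DerivedCategory.singleFunctor (ModuleCat.{u} A) 0).obj (ModuleCat.of A A) ⟶
      ((DerivedCategory.singleFunctor (ModuleCat.{u} A) 0).obj N)⟦n⟧) : g = 0 := by
  haveI : Projective (ModuleCat.of A A) := (IsProjective.iff_projective _).1 inferInstance
  haveI := DerivedCategory.TStructure.t.isGE_shift
    ((DerivedCategory.singleFunctor (ModuleCat.{u} A) 0).obj N) 0 n (-n) (by omega)
  haveI := DerivedCategory.TStructure.t.isLE_shift
    ((DerivedCategory.singleFunctor (ModuleCat.{u} A) 0).obj N) 0 n (-n) (by omega)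
  refine (DRingKP.ev0_bijective (P := ModuleCat.of A A) _).1 ?_
  refine (IsZero.eq_of_tgt ?_ _ _)
  rcases lt_or_gt_of_ne hn with h | h
  · exact DerivedCategory.isZero_of_isGE _ (-n) 0 (by omega)
  · exact DerivedCategory.isZero_of_isLE _ (-n) 0 (by omega)

variable {P : ObjectProperty (Dual.D A)} [P.IsTriangulated] (F : P.FullSubcategory ⥤ P.FullSubcategory)
  [F.CommShift ℤ]

/-- Vanishing of shifted homs is preserved. -/
theorem map_hom_eq_zero [F.Full] [F.Additive] (U V : P.FullSubcategory) (n : ℤ)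
    (h : ∀ g : U.obj ⟶ V.obj⟦n⟧, g = 0) (g : (F.obj U).obj ⟶ (F.obj V).obj⟦n⟧) : g = 0 := by
  obtain ⟨g₁, hg₁⟩ := P.ι.map_surjective (X := F.obj U) (Y := (F.obj V)⟦n⟧)
    (g ≫ (P.ι.commShiftIso n).inv.app (F.obj V))
  obtain ⟨g₂, hg₂⟩ := F.map_surjective (g₁ ≫ (F.commShiftIso n).inv.app V)
  have h2 : g₂ = 0 := by
    apply P.ι.map_injective
    rw [← cancel_mono ((P.ι.commShiftIso n).hom.app V), Functor.map_zero, zero_comp]
    exact h _
  rw [h2, Functor.map_zero] at hg₂
  have h1 : g₁ = 0 := (cancel_mono _).1 (hg₂.symm.trans zero_comp.symm)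
  rw [h1, Functor.map_zero] at hg₁
  exact (cancel_mono _).1 (hg₁.symm.trans zero_comp.symm)

/-- A scalar killing an object kills its image. -/
theorem map_smul_id_eq_zero [F.Additive] [F.Linear A] (U : P.FullSubcategory) (c : A) (h : c • 𝟙 U.obj = 0) :
    c • 𝟙 (F.obj U).obj = 0 := by
  have h1 : c • 𝟙 U = 0 := P.ι.map_injective (by rw [Functor.map_smul, Functor.map_zero]; exact h)
  have h2 := congrArg F.map h1
  rw [Functor.map_smul, Functor.map_zero, CategoryTheory.Functor.map_id] at h2
  have h3 := congrArg P.ι.map h2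
  rw [Functor.map_smul, Functor.map_zero] at h3
  exact h3

theorem map_end_scalar [F.Full] [F.Additive] [F.Linear A] (U : P.FullSubcategory)
    (h : ∀ g : U.obj ⟶ U.obj, ∃ c : A, g = c • 𝟙 U.obj) (g : (F.obj U).obj ⟶ (F.obj U).obj) :
    ∃ c : A, g = c • 𝟙 (F.obj U).obj := by
  obtain ⟨g₁, rfl⟩ := P.ι.map_surjective (X := F.obj U) (Y := F.obj U) g
  obtain ⟨g₂, rfl⟩ := F.map_surjective g₁
  obtain ⟨c, hc⟩ := h (P.ι.map g₂)
  refine ⟨c, ?_⟩
  have : g₂ = c • 𝟙 U := P.ι.map_injective (by rw [hc, Functor.map_smul]; rfl)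
  rw [this, Functor.map_smul, CategoryTheory.Functor.map_id, Functor.map_smul]
  rfl

theorem single_end_scalar (M : ModuleCat.{u} A) (hM : ∀ g : M →ₗ[A] M, ∃ c : A, ∀ x, g x = c • x)
    (g : (DerivedCategory.singleFunctor (ModuleCat.{u} A) 0).obj M ⟶
      (DerivedCategory.singleFunctor (ModuleCat.{u} A) 0).obj M) :
    ∃ c : A, g = c • 𝟙 _ := by
  obtain ⟨g, rfl⟩ := (DerivedCategory.singleFunctor (ModuleCat.{u} A) 0).map_surjective g
  obtain ⟨c, hc⟩ := hM g.hom
  refine ⟨c, ?_⟩
  rw [← CategoryTheory.Functor.map_id, ← Functor.map_smul]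
  exact congrArg _ (ModuleCat.hom_ext (LinearMap.ext hc))

theorem end_scalar_cyclic (I : Ideal A) (g : (A ⧸ I) →ₗ[A] A ⧸ I) : ∃ c : A, ∀ x, g x = c • x := by
  obtain ⟨c, hc⟩ := Ideal.Quotient.mk_surjective (g 1)
  refine ⟨c, fun x => ?_⟩
  obtain ⟨a, rfl⟩ := Ideal.Quotient.mk_surjective x
  have h1 : Ideal.Quotient.mk I a = a • (1 : A ⧸ I) := by simp [Algebra.smul_def]
  rw [h1, map_smul, ← hc, Algebra.smul_def, Algebra.smul_def, Algebra.smul_def, Ideal.Quotient.algebraMap_eq]
  ring

/-- The main construction. -/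
theorem exists_tensor_inverse [IsNoetherianRing A] [F.Full] [F.Faithful] [F.Additive] [F.Linear A]
    (hP : ∀ K : Dual.D A, P K ↔
      ((∀ i : ℤ, Module.Finite A (Dual.HD A K i)) ∧ ∃ a b : ℤ, ∀ i : ℤ, (i < a ∨ b < i) → Subsingleton (Dual.HD A K i)))
    (hA : P (DTen.unit A)) :
    ∃ C C' : DRing.Cx A, DRing.IsKFlat A C ∧ DRing.IsKFlat A C' ∧
      Nonempty (DerivedCategory.Q.obj C ≅ (F.obj ⟨DTen.unit A, hA⟩).obj) ∧ Nonempty (C ⊗ C' ≅ 𝟙_ (DRing.Cx A)) := by
  let U : P.FullSubcategory := ⟨DTen.unit A, hA⟩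
  let L := (F.obj U).obj
  obtain ⟨hLfin, a, b, hLbd⟩ := (hP L).1 (F.obj U).property
  haveI : L.IsLE b := (DerivedCategory.isLE_iff L b).2 fun i hi => by
    haveI : Subsingleton ((DerivedCategory.homologyFunctor (ModuleCat.{u} A) i).obj L) := hLbd i (Or.inr hi)
    exact ModuleCat.isZero_of_subsingleton _
  obtain ⟨K, c, hKc, hfree, ⟨eK⟩⟩ := DualCx.exists_freeRep L b hLfin
  haveI := hKc
  haveI : K.IsKProjective := DRingKP.isKProjective_of_vanishesAbove ((CochainComplex.isStrictlyLE_iff K c).1 hKc)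
    fun i => haveI := (hfree i).1; (IsProjective.iff_projective (K.X i)).1 Module.Projective.of_free
  let S0 := DerivedCategory.singleFunctor (ModuleCat.{u} A) 0
  have hres : ∀ m : Ideal A, m.IsMaximal → ∃ n : ℤ, ∀ i, i ≠ n → Bd K m i := by
    intro m hm
    let k : ModuleCat.{u} A := ModuleCat.of A (A ⧸ m)
    have hk : P (S0.obj k) := (hP _).2 ⟨fun i => by
      by_cases hi : i = 0
      · subst hi
        exact @Module.Finite.equiv A (A ⧸ m) _ _ _ _ _ _ _
          ((DerivedCategory.singleFunctorCompHomologyFunctorIso (ModuleCat.{u} A) 0).app k).toLinearEquiv.symm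
      · have hz : IsZero ((DerivedCategory.homologyFunctor (ModuleCat.{u} A) i).obj (S0.obj k)) := by
          rcases lt_or_gt_of_ne hi with h | h
          · exact DerivedCategory.isZero_of_isGE _ 0 i h
          · exact DerivedCategory.isZero_of_isLE _ 0 i h
        haveI := ModuleCat.subsingleton_of_isZero hz
        exact Module.Finite.of_finite, 0, 0, fun i hi => ModuleCat.subsingleton_of_isZero (by
          rcases hi with h | h
          · exact DerivedCategory.isZero_of_isGE _ 0 i h
          · exact DerivedCategory.isZero_of_isLE _ 0 i h)⟩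
    let V : P.FullSubcategory := ⟨S0.obj k, hk⟩
    let X := (F.obj V).obj
    have hne : 𝟙 X ≠ 0 := fun h0 => by
      have h1 : 𝟙 (F.obj V) = F.map 0 := by
        rw [Functor.map_zero]; exact P.ι.map_injective (by rw [Functor.map_zero]; exact h0)
      rw [← CategoryTheory.Functor.map_id] at h1
      have h2 := congrArg P.ι.map (F.map_injective h1)
      rw [Functor.map_zero, CategoryTheory.Functor.map_id] at h2
      have h3 : S0.map (𝟙 k) = S0.map 0 := by rw [CategoryTheory.Functor.map_id, Functor.map_zero]; exact h2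
      haveI := Ideal.Quotient.nontrivial_iff.2 hm.ne_top
      exact one_ne_zero (ConcreteCategory.congr_hom (S0.map_injective h3) (1 : A ⧸ m))
    obtain ⟨n, ⟨eX⟩⟩ := exists_iso_residue m X ((hP X).1 (F.obj V).property).2
      (fun c hc => map_smul_id_eq_zero F V c (by
        show c • 𝟙 (S0.obj k) = 0
        rw [← CategoryTheory.Functor.map_id, ← Functor.map_smul, ← Functor.map_zero S0 k k]
        refine congrArg S0.map (ModuleCat.hom_ext (LinearMap.ext fun x => ?_))
        obtain ⟨y, rfl⟩ := Submodule.Quotient.mk_surjective _ x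
        refine (rfl : _ = c • (Submodule.Quotient.mk y : A ⧸ m)).trans (Eq.trans ?_ (rfl : (0 : A ⧸ m) = _))
        rw [← Submodule.Quotient.mk_smul, Submodule.Quotient.mk_eq_zero]
        exact Ideal.mul_mem_right _ _ hc))
      (map_end_scalar F V (single_end_scalar k (end_scalar_cyclic m))) hne
      (fun d hd => map_hom_eq_zero F V V d fun g => by
        haveI := DerivedCategory.TStructure.t.isGE_shift (S0.obj k) 0 d (-d) (by omega)
        exact DerivedCategory.TStructure.t.zero_of_isLE_of_isGE g 0 (-d) (by omega) inferInstance inferInstance)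
    refine ⟨n, fun i hi => bd_of_hom_eq_zero m i fun g => ?_⟩
    have h1 := map_hom_eq_zero F U V (n - i) (fun h => unit_hom_eq_zero (by omega) h)
      (eK.inv ≫ g ≫ ((DerivedCategory.singleFunctorIsoCompQ (ModuleCat.{u} A) i).app k).inv ≫
        (((DerivedCategory.singleFunctors (ModuleCat.{u} A)).shiftIso (n - i) i n (by omega)).app k).inv ≫
        (shiftFunctor (Dual.D A) (n - i)).map eX.inv)
    rw [Preadditive.IsIso.comp_left_eq_zero] at h1
    rw [← Category.assoc, ← Category.assoc] at h1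
    replace h1 := (cancel_mono _).1 (h1.trans zero_comp.symm)
    replace h1 := (cancel_mono _).1 (h1.trans zero_comp.symm)
    exact (cancel_mono _).1 (h1.trans zero_comp.symm)
  have hone : ∀ m : Ideal A, m.IsMaximal → ∀ i j : ℤ, i ≠ j → Bd K m i ∨ Bd K m j := fun m hm i j hij => by
    obtain ⟨n, hn⟩ := hres m hm
    by_cases h : i = n
    · exact Or.inr (hn j (by omega))
    · exact Or.inl (hn i h)
  have hKhom : ∀ i, (i < a ∨ b < i) → IsZero (K.homology i) := fun i hi => by
    haveI : Subsingleton ((DerivedCategory.homologyFunctor (ModuleCat.{u} A) i).obj L) := hLbd i hi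
    exact (ModuleCat.isZero_of_subsingleton _).of_iso
      (((DerivedCategory.homologyFunctorFactors (ModuleCat.{u} A) i).app K).symm ≪≫
        (DerivedCategory.homologyFunctor (ModuleCat.{u} A) i).mapIso eK)
  obtain ⟨C, f, hf, hd, hC, hCbd⟩ := exists_formal hfree hone c hKhom
  haveI := hf
  let eC : DerivedCategory.Q.obj C ≅ L := asIso (DerivedCategory.Q.map f) ≪≫ eK
  have hUend : ∀ g : U.obj ⟶ U.obj, ∃ c : A, g = c • 𝟙 U.obj := fun g => by
    refine single_end_scalar (ModuleCat.of A A) (fun h => ⟨h 1, fun x => ?_⟩) g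
    conv_lhs => rw [← mul_one x, ← smul_eq_mul, map_smul]
    exact mul_comm _ _
  have hend : ∀ g : ∀ i, C.X i →ₗ[A] C.X i, ∃ c : A, ∀ i z, g i z = c • z := fun g => by
    let φ : C ⟶ C := { f := fun i => ModuleCat.ofHom (g i), comm' := fun i j _ => by simp [hd] }
    obtain ⟨c, hc⟩ := map_end_scalar F U hUend (eC.inv ≫ DerivedCategory.Q.map φ ≫ eC.hom)
    refine ⟨c, fun i z => ?_⟩
    have h1 : DerivedCategory.Q.map φ = DerivedCategory.Q.map (c • 𝟙 C) := by
      rw [Q_map_smul, CategoryTheory.Functor.map_id]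
      calc DerivedCategory.Q.map φ
          = eC.hom ≫ (eC.inv ≫ DerivedCategory.Q.map φ ≫ eC.hom) ≫ eC.inv := by simp
        _ = c • 𝟙 _ := by rw [hc, Linear.smul_comp, Linear.comp_smul, Category.id_comp, eC.hom_inv_id]
    have h2 := homologyMap_eq_of_Q h1 i
    haveI : IsIso (C.homologyπ i) := C.isIso_homologyπ (i - 1) i (by simp) (hd _ _)
    haveI : IsIso (C.iCycles i) := C.isIso_iCycles i (i + 1) (by simp) (hd _ _)
    have h3 := congrArg (C.homologyπ i ≫ ·) h2
    simp only [HomologicalComplex.homologyπ_naturality] at h3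
    replace h3 := congrArg (· ≫ C.iCycles i) ((cancel_mono _).1 h3)
    simp only [HomologicalComplex.cyclesMap_i] at h3
    exact ConcreteCategory.congr_hom ((cancel_epi _).1 h3) z
  have hfaith : ∀ c : A, (∀ i (z : C.X i), c • z = 0) → c = 0 := fun c hc => by
    have h1 : c • 𝟙 C = 0 := HomologicalComplex.hom_ext _ _ fun i => ModuleCat.hom_ext (LinearMap.ext (hc i))
    have h2 : c • 𝟙 L = 0 := by
      rw [← eC.inv_hom_id, ← Category.id_comp eC.hom, ← Linear.comp_smul, ← Linear.smul_comp,
        ← CategoryTheory.Functor.map_id, ← Q_map_smul, h1, Functor.map_zero, zero_comp, comp_zero]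
    have h3 : c • 𝟙 (F.obj U) = 0 := P.ι.map_injective (by rw [Functor.map_smul, Functor.map_zero]; exact h2)
    rw [← CategoryTheory.Functor.map_id, ← Functor.map_smul, ← Functor.map_zero F U U] at h3
    have h4 := congrArg P.ι.map (F.map_injective h3)
    rw [Functor.map_smul, Functor.map_zero] at h4
    have h5 : S0.map (c • 𝟙 (ModuleCat.of A A)) = S0.map 0 := by
      rw [Functor.map_smul, CategoryTheory.Functor.map_id, Functor.map_zero]
      exact h4
    exact (mul_one c).symm.trans (ConcreteCategory.congr_hom (S0.map_injective h5) (1 : A))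
  obtain ⟨e⟩ := nonempty_tensor_dual_iso C hd hC hCbd hend hfaith
  refine ⟨C, dualCx C, DRingKP.isKFlat_of_bounded (b := b) (fun i hi => hCbd i (Or.inr hi))
      (fun i => by haveI := (hC i).1; exact (inferInstance : Module.Flat A (C.X i))),
    DRingKP.isKFlat_of_bounded (b := -a) (fun i hi => ?_) (fun i => ?_), ⟨eC⟩, ⟨e⟩⟩
  · haveI := ModuleCat.subsingleton_of_isZero (hCbd (-i) (Or.inl (by omega)))
    haveI : Subsingleton (Module.Dual A (C.X (-i))) := ⟨fun x y => LinearMap.ext fun z => by
      rw [Subsingleton.elim z 0, map_zero, map_zero]⟩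
    exact ModuleCat.isZero_of_subsingleton (ModuleCat.of A (Module.Dual A (C.X (-i))))
  · haveI := (hC (-i)).1
    haveI := (hC (-i)).2
    exact (inferInstance : Module.Flat A (Module.Dual A (C.X (-i))))

end Groth.Agent.InvEquiv
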