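import Groth.Agent.InvEquiv.Point

/-!
Complexes whose maps to each residue field live in at most one degree are formal with projective cohomology.
-/

set_option autoImplicit false
set_option maxHeartbeats 1000000
set_option backward.isDefEq.respectTransparency false
universe u

namespace Groth.Agent.InvEquiv

open CategoryTheory Limits

variable {A : Type u} [CommRing A] (K : DRing.Cx A)

/-- Every cocycle `K.X i → A ⧸ m` is a coboundary. -/
def Bd (m : Ideal A) (i : ℤ) : Prop :=
  ∀ p q : ℤ, p + 1 = i → i + 1 = q → ∀ f : K.X i →ₗ[A] A ⧸ m, f.comp (K.d p i).hom = 0 →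
    ∃ φ : K.X q →ₗ[A] A ⧸ m, φ.comp (K.d i q).hom = f

/-- cycles as a submodule -/
def cyc (i : ℤ) : Submodule A (K.X i) := LinearMap.ker (K.d i (i + 1)).hom

theorem mem_cyc_d {i j : ℤ} (x : K.X i) : K.d i j x ∈ cyc K j :=
  ConcreteCategory.congr_hom (K.d_comp_d i j (j + 1)) x

/-- the differential into cycles -/
noncomputable def dZ (i j : ℤ) : K.X i →ₗ[A] cyc K j := (K.d i j).hom.codRestrict _ fun x => mem_cyc_d K x

theorem dZ_apply (i j : ℤ) (x : K.X i) : ((dZ K i j x : cyc K j) : K.X j) = K.d i j x := rfl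

variable {K}

theorem Bd.not_of_functional {m : Ideal A} {i p q : ℤ} (hp : p + 1 = i) (hq : i + 1 = q) (h : Bd K m i)
    (π : K.X i →ₗ[A] cyc K i) (hπ : ∀ z : cyc K i, π z = z)
    (f : cyc K i →ₗ[A] A ⧸ m) (hf : f.comp (dZ K p i) = 0) : f = 0 := by
  subst hq
  obtain ⟨φ, hφ⟩ := h p (i + 1) hp rfl (f.comp π) (LinearMap.ext fun x => by
    show f (π (K.d p i x)) = 0
    rw [← dZ_apply, hπ]
    exact LinearMap.congr_fun hf x)
  refine LinearMap.ext fun z => ?_
  have h1 : φ (K.d i (i + 1) z) = f (π z) := LinearMap.congr_fun hφ z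
  rw [hπ, show K.d i (i + 1) (z : K.X i) = 0 from z.2, map_zero] at h1
  exact h1.symm

variable [IsNoetherianRing A] (hfree : ∀ i, Module.Free A (K.X i) ∧ Module.Finite A (K.X i))
  (hone : ∀ m : Ideal A, m.IsMaximal → ∀ i j : ℤ, i ≠ j → Bd K m i ∨ Bd K m j)

include hfree hone in
theorem exists_split_step (i : ℤ) (hπ : ∃ π : K.X (i + 1) →ₗ[A] cyc K (i + 1), ∀ z : cyc K (i + 1), π z = z) :
    (∃ R : cyc K (i + 1) →ₗ[A] LinearMap.range (dZ K i (i + 1)), ∀ b : LinearMap.range (dZ K i (i + 1)), R b = b) ∧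
      ∃ π : K.X i →ₗ[A] cyc K i, ∀ z : cyc K i, π z = z := by
  obtain ⟨π, hπ⟩ := hπ
  haveI := (hfree (i + 1)).1
  haveI := (hfree (i + 1)).2
  haveI := (hfree i).1
  haveI := (hfree i).2
  obtain ⟨hP, hF⟩ := projective_of_retraction (cyc K (i + 1)).subtype π hπ
  have hR : ∃ R : cyc K (i + 1) →ₗ[A] LinearMap.range (dZ K i (i + 1)),
      ∀ b : LinearMap.range (dZ K i (i + 1)), R b = b := by
    refine exists_retraction _ fun m hm => ?_
    by_cases hZ : (⊤ : Submodule A (cyc K (i + 1) ⧸ LinearMap.range (dZ K i (i + 1)))) ≤ m • ⊤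
    · exact Or.inl hZ
    refine Or.inr fun g => ?_
    haveI := hm
    set Q := cyc K (i + 1) ⧸ LinearMap.range (dZ K i (i + 1))
    let V := Q ⧸ (m • ⊤ : Submodule A Q)
    obtain ⟨ψ, v, hv⟩ : ∃ (ψ : V →ₗ[A] A ⧸ m) (v : V), ψ v = 1 := by
      refine exists_functional m (fun c hc x => ?_) ?_
      · obtain ⟨x, rfl⟩ := Submodule.Quotient.mk_surjective _ x
        rw [← Submodule.Quotient.mk_smul, Submodule.Quotient.mk_eq_zero]
        exact Submodule.smul_mem_smul hc Submodule.mem_top
      · by_contra hall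
        push Not at hall
        exact hZ fun x _ => (Submodule.Quotient.mk_eq_zero _).1 (hall (Submodule.Quotient.mk x))
    have hnot : ¬ Bd K m (i + 1) := fun hB => by
      have h0 := hB.not_of_functional rfl rfl π hπ
        ((ψ.comp (Submodule.mkQ _)).comp (Submodule.mkQ _)) (LinearMap.ext fun x => by
          show ψ (Submodule.mkQ _ (Submodule.mkQ (LinearMap.range (dZ K i (i + 1))) (dZ K i (i + 1) x))) = 0
          rw [show Submodule.mkQ (LinearMap.range (dZ K i (i + 1))) (dZ K i (i + 1) x) = 0 from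
            (Submodule.Quotient.mk_eq_zero _).2 ⟨x, rfl⟩, map_zero, map_zero])
      obtain ⟨y, rfl⟩ := Submodule.Quotient.mk_surjective _ v
      obtain ⟨z, rfl⟩ := Submodule.Quotient.mk_surjective _ y
      haveI := Ideal.Quotient.nontrivial_iff.2 hm.ne_top
      exact zero_ne_one ((LinearMap.congr_fun h0 z).symm.trans hv)
    obtain ⟨φ, hφ⟩ := ((hone m hm i (i + 1) (by omega)).resolve_right hnot) (i - 1) (i + 1) (by omega) rfl
      (g.comp (dZ K i (i + 1)).rangeRestrict) (LinearMap.ext fun x => by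
        have : (dZ K i (i + 1)).rangeRestrict (K.d (i - 1) i x) = 0 :=
          Subtype.ext (Subtype.ext (ConcreteCategory.congr_hom (K.d_comp_d (i - 1) i (i + 1)) x))
        show g ((dZ K i (i + 1)).rangeRestrict (K.d (i - 1) i x)) = 0
        rw [this, map_zero])
    refine ⟨φ.comp (cyc K (i + 1)).subtype, LinearMap.ext ?_⟩
    rintro ⟨b, x, rfl⟩
    exact LinearMap.congr_fun hφ x
  obtain ⟨R, hR⟩ := hR
  obtain ⟨hBP, hBF⟩ := projective_of_retraction (LinearMap.range (dZ K i (i + 1))).subtype R hR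
  refine ⟨⟨R, hR⟩, ?_⟩
  obtain ⟨s, hs⟩ := Module.projective_lifting_property (dZ K i (i + 1)).rangeRestrict LinearMap.id
    (LinearMap.surjective_rangeRestrict _)
  refine ⟨(LinearMap.id - s.comp (dZ K i (i + 1)).rangeRestrict).codRestrict _ fun x => ?_, fun z => ?_⟩
  · refine Subtype.ext ?_
    show (z : K.X i) - s ((dZ K i (i + 1)).rangeRestrict z) = z
    rw [show (dZ K i (i + 1)).rangeRestrict (z : K.X i) = 0 from Subtype.ext (Subtype.ext z.2), map_zero, sub_zero]
  · show K.d i (i + 1) (x - s _) = 0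
    have h1 := LinearMap.congr_fun hs ((dZ K i (i + 1)).rangeRestrict x)
    rw [map_sub, sub_eq_zero]
    exact (congrArg (fun w : LinearMap.range (dZ K i (i + 1)) => ((w : cyc K (i + 1)) : K.X (i + 1))) h1).symm

variable (c : ℤ) [K.IsStrictlyLE c]

include hfree hone c in
theorem exists_cyc_retraction (i : ℤ) : ∃ π : K.X i →ₗ[A] cyc K i, ∀ z : cyc K i, π z = z := by
  suffices H : ∀ (n : ℕ) (i : ℤ), c < i + n → ∃ π : K.X i →ₗ[A] cyc K i, ∀ z : cyc K i, π z = z from
    H (c - i + 1).toNat i (by omega)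
  intro n
  induction n with
  | zero =>
    intro i hi
    haveI := ModuleCat.subsingleton_of_isZero (K.isZero_of_isStrictlyLE c i (by omega))
    exact ⟨0, fun z => Subsingleton.elim _ _⟩
  | succ n ih => exact fun i hi => (exists_split_step hfree hone i (ih (i + 1) (by omega))).2

include hfree hone c in
/-- Complements of boundaries in cycles. -/
theorem exists_complement (i : ℤ) : ∃ W : Submodule A (K.X i), W ≤ cyc K i ∧
    Module.Projective A W ∧ Module.Finite A W ∧
    (∀ w ∈ W, ∀ y : K.X (i - 1), K.d (i - 1) i y = w → w = 0) ∧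
    ∀ z ∈ cyc K i, ∃ y : K.X (i - 1), z - K.d (i - 1) i y ∈ W := by
  obtain ⟨p, rfl⟩ : ∃ p, p + 1 = i := ⟨i - 1, by omega⟩
  obtain ⟨π, hπ⟩ := exists_cyc_retraction hfree hone c (p + 1)
  obtain ⟨⟨R, hR⟩, -⟩ := exists_split_step hfree hone p ⟨π, hπ⟩
  haveI := (hfree (p + 1)).1
  haveI := (hfree (p + 1)).2
  obtain ⟨hP, hF⟩ := projective_of_retraction (cyc K (p + 1)).subtype π hπ
  let r : cyc K (p + 1) →ₗ[A] cyc K (p + 1) := LinearMap.id - (LinearMap.range (dZ K p (p + 1))).subtype.comp R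
  let W : Submodule A (K.X (p + 1)) := (LinearMap.ker R).map (cyc K (p + 1)).subtype
  have hrk : ∀ z, r z ∈ LinearMap.ker R := fun z => by
    show R (z - (R z : cyc K (p + 1))) = 0
    rw [map_sub, hR, sub_self]
  have e := Submodule.equivMapOfInjective (cyc K (p + 1)).subtype (Submodule.injective_subtype _) (LinearMap.ker R)
  obtain ⟨hP', hF'⟩ := projective_of_retraction (LinearMap.ker R).subtype (r.codRestrict _ hrk) fun x =>
    Subtype.ext (show (x : cyc K (p + 1)) - (R x : cyc K (p + 1)) = x by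
      rw [show R (x : cyc K (p + 1)) = 0 from x.2]; simp)
  refine ⟨W, Submodule.map_subtype_le _ _, Module.Projective.of_equiv e, Module.Finite.equiv e, ?_⟩
  rw [show p + 1 - 1 = p by omega]
  refine ⟨?_, ?_⟩
  · rintro _ ⟨z, hz, rfl⟩ y hy
    have h1 : z = dZ K p (p + 1) y := Subtype.ext hy.symm
    have h2 := hR ⟨z, y, h1.symm⟩
    rw [show R z = 0 from hz] at h2
    exact congrArg Subtype.val (show z = 0 from (congrArg Subtype.val h2).symm)
  · intro z hz
    obtain ⟨y, hy⟩ := (R ⟨z, hz⟩).2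
    refine ⟨y, r ⟨z, hz⟩, hrk _, ?_⟩
    show z - ((R ⟨z, hz⟩ : cyc K (p + 1)) : K.X (p + 1)) = _
    rw [← hy]
    rfl

omit [IsNoetherianRing A] in
theorem iCycles_injective (i : ℤ) : Function.Injective (K.iCycles i) :=
  (ModuleCat.mono_iff_injective _).1 inferInstance

omit [IsNoetherianRing A] in
theorem iCycles_mem_cyc (i : ℤ) (z : K.cycles i) : K.iCycles i z ∈ cyc K i :=
  ConcreteCategory.congr_hom (K.iCycles_d i (i + 1)) z

omit [IsNoetherianRing A] in
theorem exists_cycle {i : ℤ} {x : K.X i} (hx : x ∈ cyc K i) : ∃ z : K.cycles i, K.iCycles i z = x := by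
  let f : ModuleCat.of A A ⟶ K.X i := ModuleCat.ofHom (LinearMap.toSpanSingleton A _ x)
  have hf : f ≫ K.d i (i + 1) = 0 := ModuleCat.hom_ext (LinearMap.ext_ring (by
    show K.d i (i + 1) ((1 : A) • x) = 0
    rw [one_smul]; exact hx))
  exact ⟨K.liftCycles f (i + 1) (by simp) hf 1,
    (ConcreteCategory.congr_hom (K.liftCycles_i f (i + 1) (by simp) hf) (1 : A)).trans (one_smul A x)⟩

omit [IsNoetherianRing A] in
theorem homologyπ_eq_zero_iff (i : ℤ) (z : K.cycles i) :
    K.homologyπ i z = 0 ↔ ∃ y, K.d (i - 1) i y = K.iCycles i z := by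
  constructor
  · intro h
    have hex := ShortComplex.exact_of_g_is_cokernel (ShortComplex.mk (K.toCycles (i - 1) i) (K.homologyπ i) (by simp))
      (K.homologyIsCokernel (i - 1) i (by simp))
    obtain ⟨y, rfl⟩ := (ShortComplex.moduleCat_exact_iff _).1 hex _ h
    exact ⟨y, (ConcreteCategory.congr_hom (K.toCycles_i (i - 1) i) y).symm⟩
  · rintro ⟨y, hy⟩
    rw [show z = K.toCycles (i - 1) i y from iCycles_injective i
      (hy.symm.trans (ConcreteCategory.congr_hom (K.toCycles_i (i - 1) i) y).symm)]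
    exact ConcreteCategory.congr_hom (K.toCycles_comp_homologyπ (i - 1) i) y

include hfree hone c in
/-- The complex is quasi-isomorphic to a bounded complex of finite projectives with zero differential. -/
theorem exists_formal {a b : ℤ} (hhom : ∀ i, (i < a ∨ b < i) → IsZero (K.homology i)) :
    ∃ (C : DRing.Cx A) (f : C ⟶ K), QuasiIso f ∧ (∀ i j, C.d i j = 0) ∧
      (∀ i, Module.Projective A (C.X i) ∧ Module.Finite A (C.X i)) ∧
      ∀ i, (i < a ∨ b < i) → IsZero (C.X i) := by
  choose W hW hWP hWF hinj hsurj using exists_complement hfree hone c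
  let C : DRing.Cx A :=
    { X := fun i => ModuleCat.of A (W i), d := fun _ _ => 0, shape := fun _ _ _ => rfl,
      d_comp_d' := fun _ _ _ _ _ => zero_comp }
  let f : C ⟶ K :=
    { f := fun i => ModuleCat.ofHom (W i).subtype
      comm' := fun i j hij => by
        obtain rfl : i + 1 = j := hij
        refine (ModuleCat.hom_ext (LinearMap.ext fun x => ?_)).trans zero_comp.symm
        exact hW i x.2 }
  have hq : ∀ i, IsIso (HomologicalComplex.homologyMap f i) := by
    intro i
    haveI : IsIso (C.homologyπ i) := C.isIso_homologyπ (i - 1) i (by simp) rfl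
    rw [ConcreteCategory.isIso_iff_bijective]
    have hnat : ∀ z, HomologicalComplex.homologyMap f i (C.homologyπ i z) =
        K.homologyπ i (HomologicalComplex.cyclesMap f i z) := fun z =>
      ConcreteCategory.congr_hom (HomologicalComplex.homologyπ_naturality f i) z
    have hmap : ∀ z, K.iCycles i (HomologicalComplex.cyclesMap f i z) =
        ((C.iCycles i z : W i) : K.X i) := fun z =>
      ConcreteCategory.congr_hom (HomologicalComplex.cyclesMap_i f i) z
    refine ⟨(injective_iff_map_eq_zero (HomologicalComplex.homologyMap f i).hom).2 fun h hh => ?_, fun h => ?_⟩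
    · obtain ⟨z, rfl⟩ := homologyπ_surjective C i h
      obtain ⟨y, hy⟩ := (homologyπ_eq_zero_iff i _).1 ((hnat z).symm.trans hh)
      rw [hmap] at hy
      have h0 := hinj i _ (C.iCycles i z : W i).2 y hy
      have : z = 0 := iCycles_injective (K := C) i (by rw [map_zero]; exact Subtype.ext h0)
      rw [this, map_zero]
    · obtain ⟨z, rfl⟩ := homologyπ_surjective K i h
      obtain ⟨y, hy⟩ := hsurj i _ (iCycles_mem_cyc i z)
      obtain ⟨z', hz'⟩ := exists_cycle (K := C) (i := i) (x := (⟨_, hy⟩ : W i)) rfl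
      refine ⟨C.homologyπ i z', (hnat z').trans ?_⟩
      refine (sub_eq_zero.1 ?_).symm
      rw [← map_sub, homologyπ_eq_zero_iff]
      refine ⟨y, ?_⟩
      rw [map_sub, hmap, hz']
      show _ = K.iCycles i z - (K.iCycles i z - K.d (i - 1) i y)
      abel
  refine ⟨C, f, ?_, fun _ _ => rfl, fun i => ⟨hWP i, hWF i⟩, fun i hi => ?_⟩
  · rw [quasiIso_iff]
    intro i
    rw [quasiIsoAt_iff_isIso_homologyMap]
    exact hq i
  · refine @ModuleCat.isZero_of_subsingleton _ _ _ ⟨fun x y => ?_⟩
    suffices ∀ w : W i, w = 0 by rw [this x, this y]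
    intro w
    obtain ⟨z, hz⟩ := exists_cycle (hW i w.2)
    haveI := ModuleCat.subsingleton_of_isZero (hhom i hi)
    obtain ⟨y, hy⟩ := (homologyπ_eq_zero_iff i z).1 (Subsingleton.elim _ _)
    exact Subtype.ext (hinj i _ w.2 y (hy.trans hz))

end Groth.Agent.InvEquiv
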