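import Mathlib

/-!
Splitting criteria over a commutative ring by maximal ideals, and modules with scalar endomorphisms.
-/

set_option autoImplicit false
universe u v w

namespace Groth.Agent.InvEquiv

open Polynomial

variable {A : Type u} [CommRing A]

/-- A nonzero module killed by a maximal ideal has a functional which is `1` somewhere. -/
theorem exists_functional {V : Type v} [AddCommGroup V] [Module A V] (m : Ideal A) [m.IsMaximal]
    (hm : ∀ a ∈ m, ∀ x : V, a • x = 0) (hV : ∃ x : V, x ≠ 0) : ∃ (φ : V →ₗ[A] A ⧸ m) (v : V), φ v = 1 := by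
  have ht : Module.IsTorsionBySet A V m := fun x a => hm _ a.2 x
  letI := ht.module
  letI : Field (A ⧸ m) := Ideal.Quotient.field m
  haveI : IsScalarTower A (A ⧸ m) V := ht.isScalarTower
  obtain ⟨x, hx⟩ := hV
  obtain ⟨φ, hφ⟩ := Module.Projective.exists_dual_ne_zero (A ⧸ m) hx
  exact ⟨φ.restrictScalars A, (φ x)⁻¹ • x, by simp [hφ]⟩

/-- Scalars outside a maximal ideal act invertibly on a module killed by it. -/
theorem smul_eq_zero_imp {V : Type v} [AddCommGroup V] [Module A V] (m : Ideal A) [m.IsMaximal]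
    (hm : ∀ a ∈ m, ∀ x : V, a • x = 0) {c : A} {x : V} (h : c • x = 0) (hx : x ≠ 0) : c ∈ m := by
  by_contra hc
  obtain ⟨b, i, hi, hb⟩ := Ideal.IsMaximal.exists_inv (inferInstance : m.IsMaximal) hc
  apply hx
  rw [← one_smul A x, ← hb, add_smul, mul_smul, h, smul_zero, hm i hi, add_zero]

/-- A nonzero module killed by a maximal ideal whose endomorphisms are scalars is the residue field. -/
theorem nonempty_equiv_residue {V : Type v} [AddCommGroup V] [Module A V] (m : Ideal A) [m.IsMaximal]
    (hm : ∀ a ∈ m, ∀ x : V, a • x = 0) (hV : ∃ x : V, x ≠ 0)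
    (hend : ∀ g : V →ₗ[A] V, ∃ c : A, ∀ x, g x = c • x) : Nonempty (V ≃ₗ[A] (A ⧸ m)) := by
  obtain ⟨φ, v, hv⟩ := exists_functional m hm hV
  let σ : (A ⧸ m) →ₗ[A] V := m.liftQ (LinearMap.toSpanSingleton A V v) (fun a ha => hm a ha v)
  have hσ : σ 1 = v := one_smul A v
  obtain ⟨c, hc⟩ := hend (σ.comp φ)
  have hv0 : v ≠ 0 := fun h => by
    haveI := Ideal.Quotient.nontrivial_iff.2 (inferInstance : m.IsMaximal).ne_top
    rw [h, map_zero] at hv
    exact zero_ne_one hv
  have hc1 : (c - 1) • v = 0 := by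
    rw [sub_smul, one_smul, ← hc, LinearMap.comp_apply, hv, hσ, sub_self]
  have key : σ.comp φ = LinearMap.id := LinearMap.ext fun x => by
    rw [hc, LinearMap.id_apply, ← sub_eq_zero]
    have := hm _ (smul_eq_zero_imp m hm hc1 hv0) x
    rwa [sub_smul, one_smul] at this
  refine ⟨LinearEquiv.ofLinearMap φ σ (Submodule.linearMap_qext _ (LinearMap.ext_ring ?_)) key⟩
  show φ (σ 1) = 1
  rw [hσ, hv]

variable {Z : Type v} [AddCommGroup Z] [Module A Z]

/-- The key local splitting: a functional extension property at `m` gives a retraction up to a scalar prime to `m`. -/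
theorem exists_scalar_retraction [Module.Projective A Z] (B : Submodule A Z) [Module.Finite A B] (m : Ideal A)
    [m.IsMaximal] (h : ∀ g : B →ₗ[A] A ⧸ m, ∃ φ : Z →ₗ[A] A ⧸ m, φ.comp B.subtype = g) :
    ∃ s ∉ m, ∃ R : Z →ₗ[A] B, ∀ b : B, R b = s • b := by
  letI : Field (A ⧸ m) := Ideal.Quotient.field m
  let T : Submodule A B := m • ⊤
  let k := A ⧸ m
  let b := Module.finBasis k (B ⧸ T)
  have hg : ∀ j, ∃ φ : Z →ₗ[A] A ⧸ m, φ.comp B.subtype = ((b.coord j).restrictScalars A).comp T.mkQ :=
    fun j => h _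
  choose φ hφ using hg
  let ψ : Z →ₗ[A] B ⧸ T :=
    ∑ j, ((LinearMap.toSpanSingleton k (B ⧸ T) (b j)).restrictScalars A).comp (φ j)
  have hψ : ψ.comp B.subtype = T.mkQ := LinearMap.ext fun x => by
    have hx : ∀ j, φ j x = b.coord j (T.mkQ x) := fun j => LinearMap.congr_fun (hφ j) x
    conv_rhs => rw [← b.sum_repr (T.mkQ x)]
    simp only [ψ, LinearMap.comp_apply, LinearMap.coe_sum, Finset.sum_apply, Submodule.subtype_apply, hx,
      LinearMap.coe_restrictScalars, LinearMap.toSpanSingleton_apply, Module.Basis.coord_apply]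
  obtain ⟨r₀, hr₀⟩ := Module.projective_lifting_property T.mkQ ψ T.mkQ_surjective
  let g : B →ₗ[A] B := LinearMap.id - r₀.comp B.subtype
  have hgr : LinearMap.range g ≤ m • (⊤ : Submodule A B) := by
    rintro _ ⟨x, rfl⟩
    have e1 : T.mkQ (r₀ x) = T.mkQ x := (LinearMap.congr_fun hr₀ x).trans (LinearMap.congr_fun hψ x)
    exact (Submodule.Quotient.eq T).1 e1.symm
  obtain ⟨p, hp, -, hpc, hpg⟩ :=
    LinearMap.exists_monic_and_coeff_mem_pow_and_aeval_eq_zero_of_range_le_smul A g m hgr
  have hs : p.eval 1 ∉ m := fun hm => by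
    have h1 : p.map (Ideal.Quotient.mk m) = X ^ p.natDegree := Polynomial.ext fun i => by
      rw [coeff_map, coeff_X_pow]
      rcases lt_trichotomy i p.natDegree with hi | hi | hi
      · rw [if_neg hi.ne, Ideal.Quotient.eq_zero_iff_mem]
        exact Ideal.pow_le_self (by omega) (hpc i)
      · subst hi
        rw [hp.coeff_natDegree, map_one, if_pos rfl]
      · rw [coeff_eq_zero_of_natDegree_lt hi, map_zero, if_neg hi.ne']
    have h2 := congrArg (Polynomial.eval (Ideal.Quotient.mk m 1)) h1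
    rw [eval_map, eval₂_at_apply, Ideal.Quotient.eq_zero_iff_mem.2 hm, map_one, eval_pow, eval_X, one_pow] at h2
    exact zero_ne_one h2
  obtain ⟨q, hq⟩ := X_sub_C_dvd_sub_C_eval (p := p) (a := (1 : A))
  refine ⟨p.eval 1, hs, (aeval g q).comp r₀, fun x => ?_⟩
  have h3 := congrArg (aeval g) hq
  rw [map_sub, hpg, aeval_C, mul_comm, map_mul, map_sub, aeval_X, aeval_C, map_one] at h3
  have h4 := LinearMap.congr_fun h3 x
  simp only [zero_sub, LinearMap.neg_apply, Module.algebraMap_end_apply, Module.End.mul_apply, LinearMap.sub_apply,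
    Module.End.one_apply] at h4
  have h5 : g x - x = - r₀ x := by simp [g]
  rw [h5, map_neg, neg_inj] at h4
  exact h4.symm

/-- A finitely generated submodule of a finite projective module is a direct summand if at every maximal ideal
either the quotient vanishes modulo `m` or functionals to the residue field extend. -/
theorem exists_retraction [Module.Projective A Z] [Module.Finite A Z] (B : Submodule A Z) [Module.Finite A B]
    (h : ∀ m : Ideal A, m.IsMaximal → (⊤ : Submodule A (Z ⧸ B)) ≤ m • ⊤ ∨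
      ∀ g : B →ₗ[A] A ⧸ m, ∃ φ : Z →ₗ[A] A ⧸ m, φ.comp B.subtype = g) :
    ∃ R : Z →ₗ[A] B, ∀ b : B, R b = b := by
  let I : Ideal A :=
    { carrier := {a | ∃ R : Z →ₗ[A] B, ∀ b : B, R b = a • b}
      add_mem' := by
        rintro a c ⟨R, hR⟩ ⟨R', hR'⟩
        exact ⟨R + R', fun b => by rw [LinearMap.add_apply, hR, hR', add_smul]⟩
      zero_mem' := ⟨0, fun b => by simp⟩
      smul_mem' := by
        rintro c a ⟨R, hR⟩
        exact ⟨c • R, fun b => by rw [LinearMap.smul_apply, hR, smul_smul, smul_eq_mul]⟩ }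
  by_cases hI : I = ⊤
  · obtain ⟨R, hR⟩ := (Ideal.eq_top_iff_one I).1 hI
    exact ⟨R, fun b => by rw [hR, one_smul]⟩
  · exfalso
    obtain ⟨m, hm, hIm⟩ := Ideal.exists_le_maximal I hI
    rcases h m hm with hZ | hg
    · obtain ⟨s, hs, hs0⟩ :=
        Submodule.exists_sub_one_mem_and_smul_eq_zero_of_fg_of_le_smul m ⊤ Module.Finite.fg_top hZ
      have hmem : ∀ z : Z, s • z ∈ B := fun z => by
        rw [← Submodule.Quotient.mk_eq_zero B, Submodule.Quotient.mk_smul]
        exact hs0 _ Submodule.mem_top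
      have : s ∈ m := hIm ⟨(s • LinearMap.id : Z →ₗ[A] Z).codRestrict B hmem, fun b => Subtype.ext rfl⟩
      exact hm.ne_top ((Ideal.eq_top_iff_one m).2 (by simpa using m.sub_mem this hs))
    · haveI := hm
      obtain ⟨s, hs, R, hR⟩ := exists_scalar_retraction B m hg
      exact hs (hIm ⟨R, hR⟩)

/-- A direct summand of a finite projective module is finite projective. -/
theorem projective_of_retraction [Module.Projective A Z] [Module.Finite A Z] {P : Type w} [AddCommGroup P]
    [Module A P] (i : P →ₗ[A] Z) (r : Z →ₗ[A] P) (h : ∀ x, r (i x) = x) :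
    Module.Projective A P ∧ Module.Finite A P :=
  ⟨Module.Projective.of_split i r (LinearMap.ext h), Module.Finite.of_surjective r fun x => ⟨i x, h x⟩⟩

end Groth.Agent.InvEquiv
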