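import Groth.Agent.InvEquiv.Module
import Groth.Agent.DualCx.Coherent
import Groth.Prelude.Def_DTen

/-!
Point objects of `D(A)`: killed by a maximal ideal, scalar endomorphisms and no negative self extensions.
-/

set_option autoImplicit false
set_option maxHeartbeats 1000000
set_option backward.isDefEq.respectTransparency false
universe u

namespace Groth.Agent.InvEquiv

open CategoryTheory Limits DerivedCategory Pretriangulated

attribute [local instance] HasDerivedCategory.standard

variable {A : Type u} [CommRing A]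

theorem homologyMap_smul' {K L : DRing.Cx A} (φ : K ⟶ L) (a : A) (i : ℤ) :
    HomologicalComplex.homologyMap (a • φ) i = a • HomologicalComplex.homologyMap φ i := by
  rw [HomologicalComplex.homologyMap, HomologicalComplex.homologyMap, ← ShortComplex.homologyMap_smul]
  rfl

/-- Maps with the same image in `D(A)` agree on homology. -/
theorem homologyMap_eq_of_Q {K L : DRing.Cx A} {φ ψ : K ⟶ L} (h : DerivedCategory.Q.map φ = DerivedCategory.Q.map ψ)
    (i : ℤ) : HomologicalComplex.homologyMap φ i = HomologicalComplex.homologyMap ψ i := by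
  have h1 := (DerivedCategory.homologyFunctorFactors (ModuleCat.{u} A) i).hom.naturality φ
  have h2 := (DerivedCategory.homologyFunctorFactors (ModuleCat.{u} A) i).hom.naturality ψ
  simp only [Functor.comp_map, HomologicalComplex.homologyFunctor_map, h] at h1 h2
  exact (cancel_epi ((DerivedCategory.homologyFunctorFactors (ModuleCat.{u} A) i).hom.app K)).1 (h1.symm.trans h2)

theorem Q_map_smul {K L : DRing.Cx A} (φ : K ⟶ L) (a : A) :
    DerivedCategory.Q.map (a • φ) = a • DerivedCategory.Q.map φ := Functor.map_smul _ _ _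

/-- Scalars killing `Q C` kill the homology of `C`. -/
theorem smul_homology_eq_zero {C : DRing.Cx A} {a : A} (h : a • 𝟙 (DerivedCategory.Q.obj C) = 0) (i : ℤ)
    (x : C.homology i) : a • x = 0 := by
  have h1 := homologyMap_eq_of_Q (φ := a • 𝟙 C) (ψ := 0)
    (by rw [Q_map_smul, CategoryTheory.Functor.map_id, h, Functor.map_zero]) i
  rw [homologyMap_smul', HomologicalComplex.homologyMap_id, HomologicalComplex.homologyMap_zero] at h1
  exact ConcreteCategory.congr_hom h1 x

theorem sc_exact_iff (C : DRing.Cx A) (i : ℤ) :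
    IsZero (C.homology i) ↔ ∀ x : C.X i, C.d i (i + 1) x = 0 → ∃ y, C.d (i - 1) i y = x := by
  rw [← HomologicalComplex.exactAt_iff_isZero_homology,
    HomologicalComplex.exactAt_iff' C (i - 1) i (i + 1) (by simp) (by simp), ShortComplex.moduleCat_exact_iff]
  rfl

theorem homologyπ_surjective (C : DRing.Cx A) (i : ℤ) : Function.Surjective (C.homologyπ i) :=
  (ModuleCat.epi_iff_surjective _).1 inferInstance

/-- A scalar killing homology pushes cycles into boundaries. -/
theorem smul_cycle_mem {C : DRing.Cx A} {a : A} {i : ℤ} (h : ∀ y : C.homology i, a • y = 0) (x : C.X i)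
    (hx : C.d i (i + 1) x = 0) : ∃ y, C.d (i - 1) i y = a • x := by
  let z : ModuleCat.of A A ⟶ C.cycles i := C.liftCycles (ModuleCat.ofHom (LinearMap.toSpanSingleton A _ x)) (i + 1)
    (by simp) (ModuleCat.hom_ext (LinearMap.ext_ring (by simpa using hx)))
  have hz : C.iCycles i (z 1) = x := by
    have := ConcreteCategory.congr_hom (HomologicalComplex.liftCycles_i C (ModuleCat.ofHom
      (LinearMap.toSpanSingleton A _ x)) (i + 1) (by simp) (ModuleCat.hom_ext (LinearMap.ext_ring (by simpa using hx)))) (1 : A)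
    exact this.trans (one_smul A x)
  have h1 : C.homologyπ i (a • z 1) = 0 := by
    have := h (C.homologyπ i (z 1))
    rw [← this]
    exact map_smul _ _ _
  have hc := C.homologyIsCokernel (i - 1) i (by simp)
  have hex := ShortComplex.exact_of_g_is_cokernel (ShortComplex.mk (C.toCycles (i - 1) i) (C.homologyπ i) (by simp)) hc
  obtain ⟨y, hy⟩ := (ShortComplex.moduleCat_exact_iff _).1 hex _ h1
  refine ⟨y, ?_⟩
  rw [← C.toCycles_i (i - 1) i]
  exact (congrArg (C.iCycles i).hom hy).trans ((map_smul _ _ _).trans (congrArg (a • ·) hz))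

/-- The self map `C ⟶ C⟦a - b⟧` given by a map from degree `b` to degree `a`. -/
theorem exists_self_map (C : DRing.Cx A) {a b : ℤ} (h : C.X b ⟶ C.X a) (h₁ : C.d (b - 1) b ≫ h = 0)
    (h₂ : h ≫ C.d a (a + 1) = 0) :
    ∃ φ : C ⟶ C⟦a - b⟧, φ.f b = h ≫ (C.XIsoOfEq (show a = b + (a - b) by omega)).hom := by
  refine ⟨{ f := fun j => if hj : j = b then (C.XIsoOfEq hj).hom ≫ h ≫
      (C.XIsoOfEq (show a = j + (a - b) by omega)).hom else 0, comm' := ?_ }, ?_⟩
  · intro i j hij
    obtain rfl : i + 1 = j := hij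
    by_cases hi : i = b
    · subst hi
      rw [dif_pos rfl, dif_neg (by omega), comp_zero]
      simp only [CochainComplex.shiftFunctor_obj_d', Linear.comp_units_smul, Category.assoc,
        HomologicalComplex.XIsoOfEq_hom_comp_d, HomologicalComplex.XIsoOfEq_rfl, Iso.refl_hom, Category.id_comp]
      have e : C.d a (i + 1 + (a - i)) = C.d a (a + 1) ≫ (C.XIsoOfEq (show a + 1 = i + 1 + (a - i) by omega)).hom := by
        rw [HomologicalComplex.d_comp_XIsoOfEq_hom]
      rw [e, reassoc_of% h₂, zero_comp, smul_zero]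
    · rw [dif_neg hi, zero_comp]
      by_cases hi' : i + 1 = b
      · rw [dif_pos hi', ← Category.assoc, HomologicalComplex.d_comp_XIsoOfEq_hom]
        obtain rfl : i = b - 1 := by omega
        rw [reassoc_of% h₁, zero_comp]
      · rw [dif_neg hi', comp_zero]
  · simp

variable (m : Ideal A) [m.IsMaximal]

/-- A complex concentrated between `a` and `b`, with nonzero top and bottom homology killed by `m`, has a nonzero
map to its shift by `a - b`. -/
theorem exists_ne_zero_self_map (C : DRing.Cx A) {a b : ℤ} [C.IsStrictlyGE a] (hz : ∀ x : C.X (b + 1), x = 0)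
    (hm : ∀ (i : ℤ) (c : A), c ∈ m → ∀ x : C.homology i, c • x = 0)
    (ha : ¬ IsZero (C.homology a)) (hb : ¬ IsZero (C.homology b)) :
    ∃ φ : C ⟶ C⟦a - b⟧, DerivedCategory.Q.map φ ≠ 0 := by
  have hza : ∀ y : C.X (a - 1), y = 0 := fun y =>
    haveI := ModuleCat.subsingleton_of_isZero (C.isZero_of_isStrictlyGE a (a - 1) (by omega))
    Subsingleton.elim _ _
  obtain ⟨z, hz0, hzd⟩ : ∃ z : C.X a, z ≠ 0 ∧ C.d a (a + 1) z = 0 := by
    by_contra hall
    push Not at hall
    refine ha ((sc_exact_iff C a).2 fun x hx => ⟨0, ?_⟩)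
    by_contra hx0
    exact hall x (fun h => hx0 (by rw [map_zero, h])) hx
  have hzm : ∀ c ∈ m, c • z = 0 := fun c hc => by
    obtain ⟨y, hy⟩ := smul_cycle_mem (hm a c hc) z hzd
    rw [← hy, hza y, map_zero]
  let B : Submodule A (C.X b) := LinearMap.range (C.d (b - 1) b).hom
  obtain ⟨ψ, w, hψ⟩ : ∃ (ψ : (C.X b ⧸ B) →ₗ[A] A ⧸ m) (w : C.X b ⧸ B), ψ w = 1 := by
    refine exists_functional m (fun c hc q => ?_) ?_
    · obtain ⟨x, rfl⟩ := Submodule.Quotient.mk_surjective _ q
      obtain ⟨y, hy⟩ := smul_cycle_mem (hm b c hc) x (hz _)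
      rw [← Submodule.Quotient.mk_smul, Submodule.Quotient.mk_eq_zero]
      exact ⟨y, hy⟩
    · by_contra hall
      push Not at hall
      refine hb ((sc_exact_iff C b).2 fun x _ => ?_)
      exact (Submodule.Quotient.mk_eq_zero B).1 (hall (Submodule.Quotient.mk x))
  let σ : (A ⧸ m) →ₗ[A] C.X a := m.liftQ (LinearMap.toSpanSingleton A _ z) fun c hc => hzm c hc
  have hσ : σ 1 = z := one_smul A z
  let h : C.X b ⟶ C.X a := ModuleCat.ofHom ((σ.comp ψ).comp B.mkQ)
  obtain ⟨φ, hφ⟩ := exists_self_map C h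
    (ModuleCat.hom_ext (LinearMap.ext fun y => by
      show σ (ψ (B.mkQ (C.d (b - 1) b y))) = 0
      rw [show B.mkQ (C.d (b - 1) b y) = 0 from (Submodule.Quotient.mk_eq_zero B).2 ⟨y, rfl⟩, map_zero, map_zero]))
    (ModuleCat.hom_ext (LinearMap.ext fun y => by
      show C.d a (a + 1) (σ (ψ (B.mkQ y))) = 0
      obtain ⟨c, hc⟩ := Ideal.Quotient.mk_surjective (ψ (B.mkQ y))
      rw [← hc]
      show C.d a (a + 1) (c • z) = 0
      rw [map_smul, hzd, smul_zero]))
  refine ⟨φ, fun h0 => ?_⟩
  obtain ⟨x, rfl⟩ := Submodule.Quotient.mk_surjective _ w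
  have h1 := homologyMap_eq_of_Q (φ := φ) (ψ := 0) (by rw [h0, Functor.map_zero]) b
  have hx : C.d b (b + 1) x = 0 := hz _
  let zx : ModuleCat.of A A ⟶ C.cycles b := C.liftCycles (ModuleCat.ofHom (LinearMap.toSpanSingleton A _ x)) (b + 1)
    (by simp) (ModuleCat.hom_ext (LinearMap.ext_ring (by simpa using hx)))
  have h2 : zx ≫ HomologicalComplex.cyclesMap φ b ≫ (C⟦a - b⟧).homologyπ b = 0 := by
    rw [← HomologicalComplex.homologyπ_naturality, h1, HomologicalComplex.homologyMap_zero, comp_zero, comp_zero]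
  haveI : IsIso ((C⟦a - b⟧).homologyπ b) := by
    refine HomologicalComplex.isIso_homologyπ _ (b - 1) b (by simp) ?_
    exact (C.isZero_of_isStrictlyGE a (b - 1 + (a - b)) (by omega)).eq_of_src _ _
  rw [← Category.assoc, Preadditive.IsIso.comp_right_eq_zero] at h2
  have h3 := congrArg (· ≫ (C⟦a - b⟧).iCycles b) h2
  simp only [Category.assoc, HomologicalComplex.cyclesMap_i, zero_comp, zx,
    HomologicalComplex.liftCycles_i_assoc, hφ] at h3
  rw [← Category.assoc] at h3
  replace h3 := (cancel_mono _).1 (h3.trans zero_comp.symm)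
  have h4 := ConcreteCategory.congr_hom h3 (1 : A)
  apply hz0
  rw [← hσ, ← hψ]
  refine Eq.trans ?_ h4
  show σ (ψ (B.mkQ x)) = σ (ψ (B.mkQ ((1 : A) • x)))
  rw [one_smul]

/-- Point objects are shifted residue fields. -/
theorem exists_iso_residue [IsNoetherianRing A] (X : Dual.D A)
    (hbd : ∃ a b : ℤ, ∀ i : ℤ, (i < a ∨ b < i) → Subsingleton (Dual.HD A X i))
    (hkill : ∀ c ∈ m, c • 𝟙 X = 0) (hend : ∀ f : X ⟶ X, ∃ c : A, f = c • 𝟙 X) (hne : 𝟙 X ≠ 0)
    (hneg : ∀ n : ℤ, n < 0 → ∀ f : X ⟶ X⟦n⟧, f = 0) :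
    ∃ n : ℤ, Nonempty (X ≅ (DerivedCategory.singleFunctor (ModuleCat.{u} A) n).obj (ModuleCat.of A (A ⧸ m))) := by
  classical
  obtain ⟨a₀, b₀, hab⟩ := hbd
  let S : Set ℤ := {i | ¬ Subsingleton (Dual.HD A X i)}
  have hmem : ∀ i ∈ S, a₀ ≤ i ∧ i ≤ b₀ := fun i hi => by
    by_contra hc
    exact hi (hab i (by omega))
  have hzero : ∀ i, i ∉ S → IsZero ((DerivedCategory.homologyFunctor (ModuleCat.{u} A) i).obj X) := fun i hi => by
    haveI : Subsingleton ((DerivedCategory.homologyFunctor (ModuleCat.{u} A) i).obj X) := not_not.1 hi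
    exact ModuleCat.isZero_of_subsingleton _
  have hS : S.Nonempty := by
    by_contra hS
    rw [Set.not_nonempty_iff_eq_empty] at hS
    haveI : X.IsLE 0 := (DerivedCategory.isLE_iff X 0).2 fun i _ => hzero i (by simp [hS])
    haveI : X.IsGE 1 := (DerivedCategory.isGE_iff X 1).2 fun i _ => hzero i (by simp [hS])
    exact hne ((DerivedCategory.TStructure.t.isZero X 0 1 (by omega)).eq_of_src _ _)
  obtain ⟨a, haS, hamin⟩ := Int.exists_least_of_bdd ⟨a₀, fun i hi => (hmem i hi).1⟩ hS
  obtain ⟨b, hbS, hbmax⟩ := Int.exists_greatest_of_bdd ⟨b₀, fun i hi => (hmem i hi).2⟩ hS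
  haveI : X.IsLE b := (DerivedCategory.isLE_iff X b).2 fun i hi => hzero i fun h => by
    have := hbmax i h; omega
  haveI : X.IsGE a := (DerivedCategory.isGE_iff X a).2 fun i hi => hzero i fun h => by
    have := hamin i h; omega
  obtain ⟨C, hCa, hCb, ⟨e⟩⟩ := DerivedCategory.exists_iso_Q_obj_of_isGE_of_isLE X a b
  haveI := hCa
  haveI := hCb
  have hkC : ∀ c ∈ m, c • 𝟙 (DerivedCategory.Q.obj C) = 0 := fun c hc => by
    rw [← e.inv_hom_id, ← Category.id_comp e.hom, ← Linear.comp_smul, ← Linear.smul_comp, hkill c hc, zero_comp,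
      comp_zero]
  have hnz : ∀ i ∈ S, ¬ IsZero (C.homology i) := fun i hi h => hi (by
    haveI := ModuleCat.subsingleton_of_isZero (h.of_iso
      (((DerivedCategory.homologyFunctor (ModuleCat.{u} A) i).mapIso e) ≪≫
        (DerivedCategory.homologyFunctorFactors (ModuleCat.{u} A) i).app C))
    assumption)
  have hzb : ∀ x : C.X (b + 1), x = 0 := fun x =>
    haveI := ModuleCat.subsingleton_of_isZero (C.isZero_of_isStrictlyLE b (b + 1) (by omega))
    Subsingleton.elim _ _
  obtain ⟨φ, hφ⟩ := exists_ne_zero_self_map m C hzb (fun i c hc => smul_homology_eq_zero (hkC c hc) i)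
    (hnz a haS) (hnz b hbS)
  have hab' : a = b := by
    by_contra hne'
    have hlt : a - b < 0 := by have := hamin b hbS; omega
    have h0 := hneg _ hlt (e.hom ≫ DerivedCategory.Q.map φ ≫
      ((DerivedCategory.Q).commShiftIso (a - b)).hom.app C ≫ (shiftFunctor (Dual.D A) (a - b)).map e.inv)
    rw [Preadditive.IsIso.comp_left_eq_zero, ← Category.assoc, Preadditive.IsIso.comp_right_eq_zero,
      Preadditive.IsIso.comp_right_eq_zero] at h0
    exact hφ h0
  subst hab'
  haveI : X.IsGE a := inferInstance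
  obtain ⟨M, ⟨eM⟩⟩ := DerivedCategory.exists_iso_singleFunctor_obj_of_isGE_of_isLE X a
  let F := DerivedCategory.singleFunctor (ModuleCat.{u} A) a
  have hadd : ∀ (c : A) {P Q : ModuleCat.{u} A} (f : P ⟶ Q), F.map (c • f) = c • F.map f := fun c _ _ f =>
    Functor.map_smul _ _ _
  have hend' : ∀ g : M →ₗ[A] M, ∃ c : A, ∀ x, g x = c • x := fun g => by
    obtain ⟨c, hc⟩ := hend (eM.hom ≫ F.map (ModuleCat.ofHom g) ≫ eM.inv)
    refine ⟨c, fun x => ?_⟩
    have h1 : F.map (ModuleCat.ofHom g) = F.map (c • 𝟙 M) := by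
      rw [hadd, CategoryTheory.Functor.map_id]
      calc F.map (ModuleCat.ofHom g)
          = eM.inv ≫ (eM.hom ≫ F.map (ModuleCat.ofHom g) ≫ eM.inv) ≫ eM.hom := by
            simp only [Category.assoc, Iso.inv_hom_id, Category.comp_id, Iso.inv_hom_id_assoc]
        _ = c • 𝟙 _ := by rw [hc, Linear.smul_comp, Linear.comp_smul, Category.id_comp, eM.inv_hom_id]
    exact ConcreteCategory.congr_hom (F.map_injective h1) x
  have hMm : ∀ c ∈ m, ∀ x : M, c • x = 0 := fun c hc x => by
    have h1 : F.map (c • 𝟙 M) = F.map 0 := by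
      rw [hadd, CategoryTheory.Functor.map_id, Functor.map_zero]
      calc c • 𝟙 _ = eM.inv ≫ (c • 𝟙 X) ≫ eM.hom := by
            rw [Linear.smul_comp, Linear.comp_smul, Category.id_comp, eM.inv_hom_id]
        _ = 0 := by rw [hkill c hc, zero_comp, comp_zero]
    exact ConcreteCategory.congr_hom (F.map_injective h1) x
  have hMne : ∃ x : M, x ≠ 0 := by
    by_contra hall
    push Not at hall
    haveI : Subsingleton M := ⟨fun x y => by rw [hall x, hall y]⟩
    exact hne ((Functor.map_isZero F (ModuleCat.isZero_of_subsingleton M)).of_iso eM |>.eq_of_src _ _)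
  obtain ⟨q⟩ := nonempty_equiv_residue m hMm hMne hend'
  exact ⟨a, ⟨eM ≪≫ F.mapIso q.toModuleIso⟩⟩

end Groth.Agent.InvEquiv
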